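import Groth.Agent.Lib.Helper5.FunFld.FF
import Mathlib.RingTheory.Valuation.Integral

/-! Weak function fields (`IsFF1`): some transcendental `x` with `K` finite over `k(x)`,
no hypothesis on the constant field (helper5). -/

set_option autoImplicit false

namespace FunFld

variable {k K : Type*} [Field k] [Field K] [Algebra k K]

variable (k K) in
/-- `K/k` has a transcendental element over whose generated subfield `K` is finite;
no condition on constants. -/
def IsFF1 : Prop :=
  ∃ x : K, Transcendental k x ∧ FiniteDimensional (IntermediateField.adjoin k ({x} : Set K)) K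

lemma IsFunctionField.isFF1 (hK : IsFunctionField k K) : IsFF1 k K := hK.1

namespace IsFF1

lemma essFiniteType (hK : IsFF1 k K) : Algebra.EssFiniteType k K := by
  obtain ⟨x, -, hfin⟩ := hK
  have := IsFunctionField.essFiniteType_adjoin_singleton (k := k) x
  exact .comp k (IntermediateField.adjoin k ({x} : Set K)) K

open scoped IntermediateField.algebraAdjoinAdjoin in
lemma trdeg_eq_one (hK : IsFF1 k K) : Algebra.trdeg k K = 1 := by
  obtain ⟨x, hx, hfin⟩ := hK
  have hxb : IsTranscendenceBasis k (fun _ : PUnit => x) := by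
    rw [isTranscendenceBasis_iff_algebraicIndependent_isAlgebraic]
    refine ⟨algebraicIndependent_unique_type_iff.2 hx, ?_⟩
    have hr : Set.range (fun _ : PUnit => x) = {x} := by ext; simp
    rw [hr]
    have h1 : Algebra.IsAlgebraic (IntermediateField.adjoin k ({x} : Set K)) K :=
      Algebra.IsAlgebraic.of_finite _ _
    exact (IsFractionRing.comap_isAlgebraic_iff (A := Algebra.adjoin k ({x} : Set K))
      (K := IntermediateField.adjoin k ({x} : Set K)) (C := K)).2 h1
  rw [← hxb.cardinalMk_eq_trdeg]; simp

lemma isAlgebraic_adjoin (hK : IsFF1 k K) {y : K} (hy : Transcendental k y) :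
    Algebra.IsAlgebraic (IntermediateField.adjoin k ({y} : Set K)) K := by
  have hyb : IsTranscendenceBasis k (fun _ : PUnit => y) := by
    refine AlgebraicIndependent.isTranscendenceBasis_of_trdeg_le_of_finite
      (algebraicIndependent_unique_type_iff.2 hy) ?_
    rw [hK.trdeg_eq_one]; simp
  have := hyb.isAlgebraic_field
  have hr : Set.range (fun _ : PUnit => y) = {y} := by ext; simp
  rwa [hr] at this

lemma finiteDimensional_adjoin (hK : IsFF1 k K) {y : K} (hy : Transcendental k y) :
    FiniteDimensional (IntermediateField.adjoin k ({y} : Set K)) K := by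
  have := hK.isAlgebraic_adjoin hy
  have := hK.essFiniteType
  have : Algebra.EssFiniteType (IntermediateField.adjoin k ({y} : Set K)) K :=
    Algebra.EssFiniteType.of_comp k _ K
  exact Algebra.finite_of_essFiniteType_of_isAlgebraic

end IsFF1

section Val

variable {Γ₀ : Type*} [LinearOrderedCommGroupWithZero Γ₀] (v : Valuation K Γ₀)

/-- An element algebraic over `k` and nonzero has valuation `1` for any valuation that is `≤ 1`
on `k`. -/
lemma v_eq_one_of_isAlgebraic (hv : ∀ c : k, v (algebraMap k K c) ≤ 1) {x : K} (hx0 : x ≠ 0)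
    (hx : IsAlgebraic k x) : v x = 1 := by
  have hint : ∀ y : K, IsAlgebraic k y → v y ≤ 1 := by
    intro y hy
    have hyi : IsIntegral k y := hy.isIntegral
    have h1 : IsIntegral v.integer y := by
      obtain ⟨p, hpm, hp⟩ := hyi
      refine ⟨p.map ((algebraMap k K).codRestrict v.integer (fun c => hv c)), hpm.map _, ?_⟩
      rw [← hp, Polynomial.eval₂_map]
      rfl
    exact (Valuation.integer.integers v).isIntegral_iff_v_le_one.1 h1
  have h1 := hint x hx
  have h2 := hint x⁻¹ hx.inv
  refine le_antisymm h1 ?_
  by_contra hlt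
  rw [not_le] at hlt
  have h3 : v x * v x⁻¹ = 1 := by rw [← map_mul, mul_inv_cancel₀ hx0, map_one]
  exact absurd h3 (ne_of_lt (mul_lt_one_of_lt_of_le hlt h2))

lemma transcendental_of_v_lt_one (hv : ∀ c : k, v (algebraMap k K c) ≤ 1) {x : K} (hx0 : x ≠ 0)
    (hx1 : v x < 1) : Transcendental k x := by
  intro h
  rw [v_eq_one_of_isAlgebraic v hv hx0 h] at hx1
  exact lt_irrefl _ hx1

lemma transcendental_of_v_ne_one (hv : ∀ c : k, v (algebraMap k K c) ≤ 1) {x : K} (hx0 : x ≠ 0)
    (hx1 : v x ≠ 1) : Transcendental k x := by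
  intro h
  exact hx1 (v_eq_one_of_isAlgebraic v hv hx0 h)

end Val

end FunFld
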