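import Groth.Agent.Lib.Helper5.FunFld.Discrete
import Groth.Agent.Lib.Helper5.FunFld.Weak.FF

/-! Weak version (`IsFF1`) of `Discrete.lean` (helper5). -/

set_option autoImplicit false

namespace FunFld.W

open WithZero FunFld

variable {k K : Type*} [Field k] [Field K] [Algebra k K]

section disc

variable (hK : IsFF1 k K) (O : ValuationSubring K)
  (hk : ∀ c : k, algebraMap k K c ∈ O) (hO : O ≠ ⊤)

include hK hk hO in
lemma valuationSubring_exists_max : ∃ t : K, t ≠ 0 ∧ O.valuation t < 1 ∧
    ∀ y, O.valuation y < 1 → O.valuation y ≤ O.valuation t := by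
  classical
  obtain ⟨x, hx0, hx1⟩ := valuationSubring_exists_nonunit O hO
  have hv := valuationSubring_v_algebraMap_le O hk
  have := hK.finiteDimensional_adjoin (transcendental_of_v_lt_one _ hv hx0 hx1)
  have hfin := finite_values_window O.valuation hv hx0 hx1
  have hne : hfin.toFinset.Nonempty := ⟨O.valuation x, by
    rw [Set.Finite.mem_toFinset]; exact ⟨⟨x, rfl⟩, le_rfl, hx1⟩⟩
  have hmem := Finset.max'_mem _ hne
  rw [Set.Finite.mem_toFinset] at hmem
  obtain ⟨⟨t, ht⟩, hlo, hhi⟩ := hmem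
  have hxpos : 0 < O.valuation x := by
    rw [pos_iff_ne_zero]; exact (Valuation.ne_zero_iff _).2 hx0
  refine ⟨t, ?_, by rw [ht]; exact hhi, ?_⟩
  · rintro rfl
    rw [map_zero] at ht
    rw [← ht] at hlo
    exact absurd (lt_of_lt_of_le hxpos hlo) (lt_irrefl _)
  · intro y hy
    rw [ht]
    by_cases hxy : O.valuation x ≤ O.valuation y
    · exact Finset.le_max' _ _ (by
        rw [Set.Finite.mem_toFinset]; exact ⟨⟨y, rfl⟩, hxy, hy⟩)
    · exact (lt_of_not_ge hxy).le.trans hlo

include hK hk in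
lemma valuationSubring_exists_pow (t : K) (ht0 : t ≠ 0) (ht1 : O.valuation t < 1)
    (hmax : ∀ y, O.valuation y < 1 → O.valuation y ≤ O.valuation t) (y : K) (hy0 : y ≠ 0)
    (hy1 : O.valuation y < 1) : ∃ n : ℕ, O.valuation y = O.valuation t ^ n := by
  classical
  have hv := valuationSubring_v_algebraMap_le O hk
  have := hK.finiteDimensional_adjoin (transcendental_of_v_lt_one _ hv hy0 hy1)
  have hfin := finite_values_window O.valuation hv hy0 hy1
  have htpos : 0 < O.valuation t := by
    rw [pos_iff_ne_zero]; exact (Valuation.ne_zero_iff _).2 ht0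
  have hex : ∃ j : ℕ, O.valuation t ^ j < O.valuation y := by
    by_contra hall
    have hall' : ∀ j : ℕ, O.valuation y ≤ O.valuation t ^ j := fun j =>
      not_lt.1 (fun h => hall ⟨j, h⟩)
    have hinj : Function.Injective (fun j : ℕ => O.valuation t ^ (j + 1)) := by
      intro a b hab
      by_contra hne
      rcases lt_or_gt_of_ne hne with h | h
      · exact absurd hab (ne_of_gt (pow_lt_pow_right_of_lt_one₀ htpos ht1 (by omega)))
      · exact absurd hab (ne_of_lt (pow_lt_pow_right_of_lt_one₀ htpos ht1 (by omega)))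
    refine Set.infinite_of_injective_forall_mem hinj (fun j => ?_) hfin
    refine ⟨⟨t ^ (j + 1), by simp⟩, hall' _, ?_⟩
    exact pow_lt_one₀ htpos.le ht1 (by omega)
  have hj0 := Nat.find_spec hex
  have hjmin := fun m => Nat.find_min hex (m := m)
  set j₀ := Nat.find hex with hj₀
  rcases Nat.eq_zero_or_pos j₀ with h0 | hpos
  · rw [h0, pow_zero] at hj0
    exact absurd (lt_trans hj0 hy1) (lt_irrefl _)
  obtain ⟨j₁, hj₁⟩ : ∃ j₁, j₀ = j₁ + 1 := ⟨j₀ - 1, by omega⟩
  have hle : O.valuation y ≤ O.valuation t ^ j₁ := not_lt.1 (hjmin j₁ (by omega))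
  refine ⟨j₁, le_antisymm hle ?_⟩
  by_contra hlt
  rw [not_le] at hlt
  have hu : O.valuation (y / t ^ j₁) < 1 := by
    rw [map_div₀, map_pow, div_lt_one₀ (pow_pos htpos _)]; exact hlt
  have := hmax _ hu
  rw [map_div₀, map_pow, div_le_iff₀ (pow_pos htpos _), ← pow_succ'] at this
  rw [hj₁] at hj0
  exact absurd (lt_of_lt_of_le hj0 this) (lt_irrefl _)

include hK hk hO in
/-- Every valuation subring of a function field containing `k`, other than `K`, is the
valuation ring of a place. -/
theorem exists_place_of_valuationSubring : ∃ P : Place k K, P.O = O := by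
  obtain ⟨t, ht0, ht1, hmax⟩ := valuationSubring_exists_max hK O hk hO
  have htpos : 0 < O.valuation t := by
    rw [pos_iff_ne_zero]; exact (Valuation.ne_zero_iff _).2 ht0
  have hpow : ∀ y, y ≠ 0 → ∃ n : ℤ, O.valuation y = O.valuation t ^ n := by
    intro y hy0
    rcases lt_trichotomy (O.valuation y) 1 with h | h | h
    · obtain ⟨n, hn⟩ := valuationSubring_exists_pow hK O hk t ht0 ht1 hmax y hy0 h
      exact ⟨n, by rw [hn, zpow_natCast]⟩
    · exact ⟨0, by rw [h, zpow_zero]⟩
    · have h' : O.valuation y⁻¹ < 1 := by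
        rw [map_inv₀, inv_lt_one₀ (lt_trans zero_lt_one h)]; exact h
      obtain ⟨n, hn⟩ := valuationSubring_exists_pow hK O hk t ht0 ht1 hmax y⁻¹
        (inv_ne_zero hy0) h'
      refine ⟨-n, ?_⟩
      rw [zpow_neg, zpow_natCast, ← hn, map_inv₀, inv_inv]
  obtain ⟨w, hw1, hwt⟩ := exists_int_valuation O.valuation t ht0 ht1 hpow
  refine ⟨⟨w, ?_, ?_⟩, ?_⟩
  · intro c
    rw [hw1]
    exact valuationSubring_v_algebraMap_le O hk c
  · intro γ
    induction γ using WithZero.expRecOn with
    | zero => exact ⟨0, map_zero _⟩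
    | exp a =>
      refine ⟨t ^ (-a), ?_⟩
      rw [map_zpow₀, hwt, ← exp_zsmul]
      simp
  · ext y
    rw [Valuation.mem_valuationSubring_iff]
    change w y ≤ 1 ↔ _
    rw [hw1, O.valuation_le_one_iff]

end disc

end FunFld.W
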