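import Groth.Agent.Lib.Helper5.FunFld.Exists
import Groth.Agent.Lib.Helper5.FunFld.Weak.Discrete

/-! Weak version (`IsFF1`) of `Exists.lean` (helper5). -/

set_option autoImplicit false

namespace FunFld.W

open WithZero Polynomial FunFld

variable {k K : Type*} [Field k] [Field K] [Algebra k K]

namespace Place

variable (P : Place k K)

theorem finiteDimensional_residueField (hK : IsFF1 k K) :
    FiniteDimensional k (IsLocalRing.ResidueField P.O) := by
  obtain ⟨t, ht⟩ := P.exists_uniformizer
  have ht0 : t ≠ 0 := by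
    rintro rfl
    rw [map_zero] at ht
    exact exp_ne_zero ht.symm
  have ht1 : P.1 t < 1 := by rw [ht, ← exp_zero, exp_lt_exp]; norm_num
  have := hK.finiteDimensional_adjoin (transcendental_of_v_lt_one _ P.v_algebraMap_le ht0 ht1)
  rw [FiniteDimensional, ← Module.rank_lt_aleph0_iff]
  exact lt_of_le_of_lt (P.rank_residueField_le ht0 ht1) Cardinal.natCast_lt_aleph0

theorem deg_pos (hK : IsFF1 k K) : 0 < P.deg := by
  have := Place.finiteDimensional_residueField P hK
  exact Module.finrank_pos

end Place

section exist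

variable (hK : IsFF1 k K)

include hK in
/-- A nonconstant element has a zero. -/
theorem exists_place_v_lt_one {x : K} (hx : Transcendental k x) :
    ∃ P : Place k K, P.1 x < 1 := by
  have htr := hx
  have hx0 : x ≠ 0 := by rintro rfl; exact hx (isAlgebraic_zero)
  let A : Subring K := (Algebra.adjoin k ({x} : Set K)).toSubring
  have hxA : x ∈ A := Algebra.self_mem_adjoin_singleton k x
  have hI : Ideal.span {(⟨x, hxA⟩ : A)} ≠ ⊤ := by
    intro htop
    have h1 : (1 : A) ∈ Ideal.span {(⟨x, hxA⟩ : A)} := by rw [htop]; trivial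
    rw [Ideal.mem_span_singleton'] at h1
    obtain ⟨a, ha⟩ := h1
    have haA : (a : K) ∈ (aeval (R := k) x).range := by
      rw [← Algebra.adjoin_singleton_eq_range_aeval]; exact a.2
    obtain ⟨p, hp⟩ := haA
    have hrel : aeval x (p * X - 1) = 0 := by
      rw [map_sub, map_mul, aeval_X, map_one]
      have := congrArg (Subtype.val) ha
      simp only [Subring.coe_mul, Subring.coe_one] at this
      have hp' : aeval x p = (a : K) := hp
      rw [hp', this, sub_self]
    have hne : p * X - 1 ≠ 0 := by
      intro h0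
      have := congrArg (fun q => coeff q 0) h0
      simp at this
    exact htr ⟨_, hne, hrel⟩
  obtain ⟨B, hAB, hIB⟩ := Ideal.image_subset_nonunits_valuationSubring _ hI
  have hxB : x ∈ B.nonunits := hIB ⟨⟨x, hxA⟩, Ideal.subset_span rfl, rfl⟩
  have hk : ∀ c : k, algebraMap k K c ∈ B := fun c =>
    hAB ((Algebra.adjoin k ({x} : Set K)).algebraMap_mem c)
  have hB : B ≠ ⊤ := by
    rintro rfl
    rw [ValuationSubring.mem_nonunits_iff_or] at hxB
    rcases hxB with h | h
    · exact hx0 h
    · exact h (ValuationSubring.mem_top _)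
  obtain ⟨P, hP⟩ := exists_place_of_valuationSubring hK B hk hB
  refine ⟨P, ?_⟩
  rw [ValuationSubring.mem_nonunits_iff_or] at hxB
  have hinv : x⁻¹ ∉ P.O := by
    rw [hP]; exact hxB.resolve_left hx0
  rw [P.mem_O_iff, not_le, map_inv₀, one_lt_inv₀ (by
    rw [pos_iff_ne_zero]; exact P.v_ne_zero hx0)] at hinv
  exact hinv

include hK in
theorem exists_place_ord_pos {x : K} (hx : Transcendental k x) :
    ∃ P : Place k K, 0 < P.ord x := by
  obtain ⟨P, hP⟩ := exists_place_v_lt_one hK hx
  have hx0 : x ≠ 0 := by rintro rfl; exact hx (isAlgebraic_zero)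
  exact ⟨P, (P.v_lt_one_iff hx0).1 hP⟩

omit hK in
lemma transcendental_inv {x : K} (hx : Transcendental k x) : Transcendental k x⁻¹ := by
  intro h
  apply hx
  simpa using h.inv

include hK in
theorem exists_place_ord_neg {x : K} (hx : Transcendental k x) :
    ∃ P : Place k K, P.ord x < 0 := by
  obtain ⟨P, hP⟩ := exists_place_ord_pos hK (transcendental_inv hx)
  rw [P.ord_inv] at hP
  exact ⟨P, by linarith⟩

include hK in
/-- A function field has at least one place. -/
theorem nonempty_place : Nonempty (Place k K) := by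
  obtain ⟨x, hx, -⟩ := id hK
  obtain ⟨P, -⟩ := exists_place_v_lt_one hK hx
  exact ⟨P⟩

end exist

end FunFld.W
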