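import Groth.Agent.Lib.Helper5.FunFld.Zeros
import Groth.Agent.Lib.Helper5.FunFld.Weak.Exists

/-! Weak version (`IsFF1`) of `Zeros.lean` (helper5). -/

set_option autoImplicit false

namespace FunFld.W

open WithZero FunFld

variable {k K : Type*} [Field k] [Field K] [Algebra k K]

namespace Place

/-- Local independence: there are `deg P * n` elements of `O_P` which are `k`-linearly
independent modulo `𝔪_P ^ n`. -/
theorem exists_indep_mod_pow (hK : IsFF1 k K) (P : Place k K) (n : ℕ) :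
    ∃ (ι : Type) (_ : Fintype ι) (u : ι → K), Fintype.card ι = P.deg * n ∧
      (∀ i, P.1 (u i) ≤ 1) ∧
      ∀ c : ι → k, P.1 (∑ i, c i • u i) ≤ exp (-(n : ℤ)) → c = 0 := by
  classical
  induction n with
  | zero =>
    exact ⟨Empty, inferInstance, fun e => e.elim, by simp, fun e => e.elim,
      fun c _ => funext fun e => e.elim⟩
  | succ n ih =>
    obtain ⟨ι, _, u, hcard, hu1, hind⟩ := ih
    have hfin := Place.finiteDimensional_residueField P hK
    let b := Module.finBasis k (IsLocalRing.ResidueField P.O)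
    choose s hs using fun j => IsLocalRing.residue_surjective (b j)
    obtain ⟨t, ht⟩ := P.exists_uniformizer
    have htn : P.1 (t ^ n) = exp (-(n : ℤ)) := by
      rw [map_pow, ht, ← exp_nsmul]; simp
    refine ⟨ι ⊕ Fin (Module.finrank k (IsLocalRing.ResidueField P.O)), inferInstance,
      Sum.elim u (fun j => t ^ n * (s j : K)), ?_, ?_, ?_⟩
    · rw [Fintype.card_sum, hcard, Fintype.card_fin, Nat.mul_succ]; rfl
    · rintro (i | j)
      · exact hu1 i
      · simp only [Sum.elim_inr, map_mul]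
        refine mul_le_one' ?_ (P.mem_O_iff.1 (s j).2)
        rw [htn, ← exp_zero, exp_le_exp]; omega
    · intro c hc
      rw [Fintype.sum_sum_type] at hc
      simp only [Sum.elim_inl, Sum.elim_inr] at hc
      have hB : ∑ j, c (Sum.inr j) • (t ^ n * (s j : K)) =
          t ^ n * ((∑ j, c (Sum.inr j) • s j : P.O) : K) := by
        rw [AddSubmonoidClass.coe_finsetSum, Finset.mul_sum]
        refine Finset.sum_congr rfl (fun j _ => ?_)
        rw [P.coe_smul_O, mul_smul_comm]
      rw [hB] at hc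
      have hB1 : P.1 (t ^ n * ((∑ j, c (Sum.inr j) • s j : P.O) : K)) ≤ exp (-(n : ℤ)) := by
        rw [map_mul, htn]
        exact (mul_le_mul_right (P.mem_O_iff.1 (Subtype.mem _)) _).trans_eq (mul_one _)
      have hle : exp (-((n + 1 : ℕ) : ℤ)) ≤ exp (-(n : ℤ)) := by
        rw [exp_le_exp]; push_cast; omega
      have hA : P.1 (∑ i, c (Sum.inl i) • u i) ≤ exp (-(n : ℤ)) := by
        have : ∑ i, c (Sum.inl i) • u i =
            (∑ i, c (Sum.inl i) • u i + t ^ n * ((∑ j, c (Sum.inr j) • s j : P.O) : K)) -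
              t ^ n * ((∑ j, c (Sum.inr j) • s j : P.O) : K) := by ring
        rw [this]
        exact Valuation.map_sub_le _ (hc.trans hle) hB1
      have hcl := hind _ hA
      have hA0 : ∑ i, c (Sum.inl i) • u i = 0 := by
        refine Finset.sum_eq_zero (fun i _ => ?_)
        rw [congrFun hcl i]; simp
      rw [hA0, zero_add, map_mul, htn] at hc
      have hres : P.1 ((∑ j, c (Sum.inr j) • s j : P.O) : K) < 1 := by
        by_contra hge
        rw [not_lt] at hge
        have h1 : P.1 ((∑ j, c (Sum.inr j) • s j : P.O) : K) = 1 :=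
          le_antisymm (P.mem_O_iff.1 (Subtype.mem _)) hge
        rw [h1, mul_one, exp_le_exp] at hc
        push_cast at hc
        omega
      rw [← P.residue_eq_zero_iff, map_sum] at hres
      simp only [FunFld.Place.residue_smul, hs] at hres
      have hcr := (Fintype.linearIndependent_iff.1 b.linearIndependent) _ hres
      funext i
      rcases i with i | j
      · exact congrFun hcl i
      · exact hcr j

end Place

/-- **Zeros bound**: the zero divisor of `x` on any finite set of zeros has degree at most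
`[K : k(x)]`. -/
theorem sum_deg_mul_ord_le_finrank (hK : IsFF1 k K) {x : K}
    (hx : Transcendental k x) (S : Finset (Place k K)) (hS : ∀ P ∈ S, P.1 x < 1) :
    ∑ P ∈ S, P.deg * (P.ord x).toNat ≤
      Module.finrank (IntermediateField.adjoin k ({x} : Set K)) K := by
  classical
  have hx0 : x ≠ 0 := by rintro rfl; exact hx (isAlgebraic_zero)
  have := hK.finiteDimensional_adjoin hx
  have hordpos : ∀ P ∈ S, 0 < P.ord x := fun P hP => (P.v_lt_one_iff hx0).1 (hS P hP)
  choose ι hι u hcard hu1 hind using fun P : Place k K =>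
    Place.exists_indep_mod_pow hK P (P.ord x).toNat
  have hvx : ∀ P ∈ S, exp (-(((P.ord x).toNat : ℕ) : ℤ)) = P.1 x := by
    intro P hP
    rw [P.v_eq_exp_neg_ord hx0, Int.toNat_of_nonneg (hordpos P hP).le]
  obtain ⟨ε, hεdef⟩ : ∃ ε : WithZero (Multiplicative ℤ), ε = exp (-(∑ Q ∈ S, Q.ord x)) :=
    ⟨_, rfl⟩
  have hε0 : ε ≠ 0 := by rw [hεdef]; exact exp_ne_zero
  have hεle : ∀ Q ∈ S, ε ≤ Q.1 x := by
    intro Q hQ
    rw [hεdef, Q.v_eq_exp_neg_ord hx0, exp_le_exp, neg_le_neg_iff]
    exact Finset.single_le_sum (f := fun Q : Place k K => Q.ord x)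
      (fun Q' hQ' => (hordpos Q' hQ').le) hQ
  have hε1 : ∀ Q ∈ S, ε < 1 := fun Q hQ => lt_of_le_of_lt (hεle Q hQ) (hS Q hQ)
  choose U hU using fun (P : Place k K) (i : ι P) =>
    Place.exists_approx S (fun Q => if Q = P then u P i else 0) hε0
  have hUP : ∀ P ∈ S, ∀ i : ι P, P.1 (U P i - u P i) < ε := by
    intro P hP i
    have := hU P i P hP
    rwa [if_pos rfl] at this
  have hUQ : ∀ P : Place k K, ∀ i : ι P, ∀ Q ∈ S, Q ≠ P → Q.1 (U P i) < ε := by
    intro P i Q hQ hne
    have := hU P i Q hQ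
    rwa [if_neg hne, sub_zero] at this
  let W : Submodule k K :=
    { carrier := {y | ∀ Q ∈ S, Q.1 y ≤ 1}
      add_mem' := fun {a b} ha hb Q hQ => Valuation.map_add_le _ (ha Q hQ) (hb Q hQ)
      zero_mem' := fun Q _ => by simp
      smul_mem' := fun c y hy Q hQ => (Q.v_smul_le c y).trans (hy Q hQ) }
  have hW : ∀ w ∈ W, x * w ∈ W := by
    intro w hw Q hQ
    rw [map_mul]
    exact mul_le_one' (hS Q hQ).le (hw Q hQ)
  let Z : (Σ P : S, ι P.1) → K := fun I => U I.1.1 I.2
  have hZ : ∀ I, Z I ∈ W := by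
    rintro ⟨⟨P, hP⟩, i⟩ Q hQ
    by_cases hQP : Q = P
    · subst hQP
      have : U Q i = u Q i + (U Q i - u Q i) := by ring
      change Q.1 (U Q i) ≤ 1
      rw [this]
      exact Valuation.map_add_le _ (hu1 Q i) ((hUP Q hQ i).le.trans (hε1 Q hQ).le)
    · exact ((hUQ P i Q hQ hQP).trans (hε1 Q hQ)).le
  have key := card_le_finrank_of_mod hx0 W hW Z hZ ?_
  · rw [Fintype.card_sigma] at key
    have h2 : ∑ P : S, Fintype.card (ι P.1) = ∑ P ∈ S, P.deg * (P.ord x).toNat := by
      rw [← Finset.sum_coe_sort S (fun P => P.deg * (P.ord x).toNat)]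
      exact Finset.sum_congr rfl (fun P _ => hcard P.1)
    rwa [h2] at key
  · intro a ⟨w, hw, hrel⟩
    funext I
    obtain ⟨⟨P₀, hP₀⟩, i₀⟩ := I
    have hc := hind P₀ (fun i => a ⟨⟨P₀, hP₀⟩, i⟩) ?_
    · exact congrFun hc i₀
    rw [hvx P₀ hP₀]
    rw [Fintype.sum_sigma, ← Finset.add_sum_erase _ _ (Finset.mem_univ (⟨P₀, hP₀⟩ : S))] at hrel
    have hdecomp : ∑ i, a ⟨⟨P₀, hP₀⟩, i⟩ • u P₀ i =
        x * w - ∑ i, a ⟨⟨P₀, hP₀⟩, i⟩ • (U P₀ i - u P₀ i) -
          ∑ P ∈ (Finset.univ.erase (⟨P₀, hP₀⟩ : S)), ∑ i, a ⟨P, i⟩ • Z ⟨P, i⟩ := by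
      rw [← hrel]
      simp only [smul_sub, Finset.sum_sub_distrib, Z]
      ring
    rw [hdecomp]
    refine Valuation.map_sub_le _ (Valuation.map_sub_le _ ?_ ?_) ?_
    · rw [map_mul]
      exact (mul_le_mul_right (hw P₀ hP₀) _).trans_eq (mul_one _)
    · refine Valuation.map_sum_le _ (fun i _ => ?_)
      exact (P₀.v_smul_le _ _).trans ((hUP P₀ hP₀ i).le.trans (hεle P₀ hP₀))
    · refine Valuation.map_sum_le _ (fun P hP => Valuation.map_sum_le _ (fun i _ => ?_))
      have hne : P₀ ≠ P.1 := by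
        intro h
        exact (Finset.ne_of_mem_erase hP) (Subtype.ext h.symm)
      exact (P₀.v_smul_le _ _).trans ((hUQ P.1 i P₀ hP₀ hne).le.trans (hεle P₀ hP₀))

end FunFld.W
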