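import Groth.Agent.Lib.Helper5.FunFld.Div
import Groth.Agent.Lib.Helper5.FunFld.Weak.Zeros

/-! Weak version (`IsFF1`) of `Div.lean` (helper5). -/

set_option autoImplicit false

namespace FunFld.W

open WithZero FunFld

variable {k K : Type*} [Field k] [Field K] [Algebra k K]

lemma ord_eq_zero_of_isAlgebraic (P : Place k K) {x : K} (hx : IsAlgebraic k x) : P.ord x = 0 := by
  rcases eq_or_ne x 0 with rfl | hx0
  · simp
  · rw [← P.v_eq_one_iff hx0]
    exact v_eq_one_of_isAlgebraic _ P.v_algebraMap_le hx0 hx

theorem finite_zeros (hK : IsFF1 k K) {x : K} (hx : Transcendental k x) :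
    {P : Place k K | P.1 x < 1}.Finite := by
  classical
  have hx0 : x ≠ 0 := by rintro rfl; exact hx (isAlgebraic_zero)
  by_contra hinf
  rw [← Set.Infinite] at hinf
  obtain ⟨t, htsub, htcard⟩ := hinf.exists_subset_card_eq
    (Module.finrank (IntermediateField.adjoin k ({x} : Set K)) K + 1)
  have h1 := sum_deg_mul_ord_le_finrank hK hx t (fun P hP => htsub hP)
  have h2 : t.card ≤ ∑ P ∈ t, P.deg * (P.ord x).toNat := by
    rw [Finset.card_eq_sum_ones]
    refine Finset.sum_le_sum (fun P hP => ?_)
    have hd := Place.deg_pos P hK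
    have ho : 0 < P.ord x := (P.v_lt_one_iff hx0).1 (htsub hP)
    have : 0 < (P.ord x).toNat := by omega
    exact Nat.mul_pos hd this
  omega

theorem finite_support_ord (hK : IsFF1 k K) (x : K) :
    (Function.support fun P : Place k K => P.ord x).Finite := by
  by_cases hx : IsAlgebraic k x
  · have : (Function.support fun P : Place k K => P.ord x) = ∅ := by
      ext P; simp [ord_eq_zero_of_isAlgebraic P hx]
    rw [this]; exact Set.finite_empty
  · have hx0 : x ≠ 0 := by rintro rfl; exact hx (isAlgebraic_zero)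
    refine ((finite_zeros hK hx).union (finite_zeros hK (transcendental_inv hx))).subset ?_
    intro P hP
    rw [Function.mem_support] at hP
    rcases lt_or_gt_of_ne hP with h | h
    · right
      show P.1 x⁻¹ < 1
      rw [P.v_lt_one_iff (inv_ne_zero hx0), P.ord_inv]; omega
    · left
      show P.1 x < 1
      rw [P.v_lt_one_iff hx0]; exact h

lemma div_apply (hK : IsFF1 k K) (x : K) (P : Place k K) : div k x P = P.ord x := by
  rw [div, dif_pos (finite_support_ord hK x)]
  rfl

lemma div_zero (hK : IsFF1 k K) : div k (0 : K) = 0 := by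
  ext P; rw [div_apply hK]; simp

lemma div_algebraMap (hK : IsFF1 k K) (c : k) : div k (algebraMap k K c) = 0 := by
  ext P; rw [div_apply hK, Place.ord_algebraMap]; simp

lemma div_of_isAlgebraic (hK : IsFF1 k K) {x : K} (hx : IsAlgebraic k x) : div k x = 0 := by
  ext P; rw [div_apply hK, ord_eq_zero_of_isAlgebraic P hx]; simp

lemma div_one (hK : IsFF1 k K) : div k (1 : K) = 0 := by
  ext P; rw [div_apply hK]; simp

lemma div_mul (hK : IsFF1 k K) {x y : K} (hx : x ≠ 0) (hy : y ≠ 0) :
    div k (x * y) = div k x + div k y := by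
  ext P
  rw [Finsupp.add_apply, div_apply hK, div_apply hK, div_apply hK, P.ord_mul hx hy]

lemma div_inv (hK : IsFF1 k K) (x : K) : div k x⁻¹ = -div k x := by
  ext P
  rw [Finsupp.neg_apply, div_apply hK, div_apply hK, P.ord_inv]

lemma div_pow (hK : IsFF1 k K) (x : K) (n : ℕ) : div k (x ^ n) = n • div k x := by
  ext P
  rw [Finsupp.smul_apply, div_apply hK, div_apply hK, P.ord_pow]; simp

end FunFld.W
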