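import Groth.Agent.Lib.Helper5.FunFld.LSpace
import Groth.Agent.Lib.Helper5.FunFld.Weak.Div

/-! Weak version (`IsFF1`) of `LSpace.lean` (helper5). -/

set_option autoImplicit false

namespace FunFld.W

open WithZero FunFld

variable {k K : Type*} [Field k] [Field K] [Algebra k K]

section step

variable (D : Divisor k K) (P : Place k K)

include D P in
/-- One step of the dimension estimate. -/
theorem finiteDimensional_L_step (hK : IsFF1 k K) (hfin : FiniteDimensional k (L D)) :
    FiniteDimensional k (L (D + Finsupp.single P 1)) ∧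
      ell (D + Finsupp.single P 1) ≤ ell D + P.deg := by
  obtain ⟨φ, hφ⟩ := exists_linearMap_L_step D P
  have hle : L D ≤ L (D + Finsupp.single P 1) := L_mono (by
    intro Q
    by_cases hQ : Q = P
    · subst hQ; simp
    · simp [Finsupp.single_eq_of_ne hQ])
  have hker : LinearMap.ker φ = Submodule.comap (L (D + Finsupp.single P 1)).subtype (L D) := by
    ext y
    rw [LinearMap.mem_ker, hφ]; rfl
  let e : LinearMap.ker φ ≃ₗ[k] L D :=
    (LinearEquiv.ofEq _ _ hker).trans (Submodule.comapSubtypeEquivOfLe hle)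
  have h1 : FiniteDimensional k (LinearMap.ker φ) := Module.Finite.equiv e.symm
  have := Place.finiteDimensional_residueField P hK
  have h2 : FiniteDimensional k (L (D + Finsupp.single P 1) ⧸ LinearMap.ker φ) :=
    Module.Finite.equiv (φ.quotKerEquivRange).symm
  have h3 : FiniteDimensional k (L (D + Finsupp.single P 1)) :=
    Module.Finite.of_submodule_quotient (LinearMap.ker φ)
  refine ⟨h3, ?_⟩
  have h4 := LinearMap.finrank_range_add_finrank_ker φ
  have h5 : Module.finrank k (LinearMap.ker φ) = ell D := LinearEquiv.finrank_eq e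
  have h6 : Module.finrank k (LinearMap.range φ) ≤ P.deg := Submodule.finrank_le _
  unfold ell at *
  omega

end step

section finiteness

variable (hK : IsFF1 k K)

include hK in
/-- Elements without poles are algebraic over `k`. -/
theorem mem_L_zero_iff {x : K} : x ∈ L (0 : Divisor k K) ↔ IsAlgebraic k x := by
  constructor
  · intro hx
    by_contra hx'
    have hx0 : x ≠ 0 := by rintro rfl; exact hx' isAlgebraic_zero
    obtain ⟨P, hP⟩ := exists_place_ord_neg hK hx'
    have := hx P
    rw [Finsupp.zero_apply, exp_zero, P.v_le_one_iff hx0] at this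
    omega
  · intro hx P
    rw [Finsupp.zero_apply, exp_zero]
    rcases eq_or_ne x 0 with rfl | hx0
    · simp
    · exact (v_eq_one_of_isAlgebraic _ P.v_algebraMap_le hx0 hx).le

include hK in
theorem L_neg_single_eq_bot (P : Place k K) : L (-(Finsupp.single P 1) : Divisor k K) = ⊥ := by
  rw [eq_bot_iff]
  intro x hx
  rw [Submodule.mem_bot]
  by_contra hx0
  have h0 : x ∈ L (0 : Divisor k K) := L_mono (by
    intro Q
    by_cases hQ : Q = P
    · subst hQ; simp
    · simp [Finsupp.single_eq_of_ne hQ]) hx
  have halg := (mem_L_zero_iff hK).1 h0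
  have h1 := hx P
  rw [Finsupp.neg_apply, Finsupp.single_eq_same,
    v_eq_one_of_isAlgebraic _ P.v_algebraMap_le hx0 halg, ← exp_zero, exp_le_exp] at h1
  omega

include hK in
theorem finiteDimensional_L_zero : FiniteDimensional k (L (0 : Divisor k K)) := by
  obtain ⟨P⟩ := nonempty_place hK
  have hbot : FiniteDimensional k (L (-(Finsupp.single P 1) : Divisor k K)) := by
    rw [L_neg_single_eq_bot hK P]; infer_instance
  have := (finiteDimensional_L_step (-(Finsupp.single P 1)) P hK hbot).1
  rwa [neg_add_cancel] at this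

omit hK in
theorem one_mem_L_zero : (1 : K) ∈ L (0 : Divisor k K) := fun P => by simp

include hK in
theorem ell_zero_pos : 0 < ell (0 : Divisor k K) := by
  have := finiteDimensional_L_zero hK
  rw [ell, Module.finrank_pos_iff_exists_ne_zero]
  exact ⟨⟨1, one_mem_L_zero⟩, by
    intro h
    exact one_ne_zero (congrArg Subtype.val h)⟩

include hK in
theorem finiteDimensional_L_add_of_nonneg (D : Divisor k K) (hD : FiniteDimensional k (L D)) :
    ∀ E : Divisor k K, 0 ≤ E → (FiniteDimensional k (L (D + E)) ∧
      (ell (D + E) : ℤ) ≤ ell D + E.deg) := by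
  refine Divisor.induction_nonneg ?_ ?_
  · rw [add_zero]
    refine ⟨hD, ?_⟩
    rw [Divisor.deg_zero (k := k) (K := K), add_zero]
  · intro E P _ ⟨h1, h2⟩
    have := finiteDimensional_L_step (D + E) P hK h1
    rw [← add_assoc]
    refine ⟨this.1, ?_⟩
    rw [Divisor.deg_add, Divisor.deg_single]
    have h3 : (ell (D + E + Finsupp.single P 1) : ℤ) ≤ ell (D + E) + P.deg := by
      exact_mod_cast this.2
    linarith

include hK in
/-- `L(D)` is finite-dimensional. -/
theorem finiteDimensional_L (D : Divisor k K) : FiniteDimensional k (L D) := by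
  have h0 := finiteDimensional_L_zero hK
  have hpos : (0 : Divisor k K) ≤ D ⊔ 0 := le_sup_right
  have := (finiteDimensional_L_add_of_nonneg hK 0 h0 (D ⊔ 0) hpos).1
  rw [zero_add] at this
  exact Submodule.finiteDimensional_of_le (L_mono (le_sup_left : D ≤ D ⊔ 0))

include hK in
/-- `ℓ(D₂) - ℓ(D₁) ≤ deg D₂ - deg D₁` for `D₁ ≤ D₂`. -/
theorem ell_sub_le (D₁ D₂ : Divisor k K) (h : D₁ ≤ D₂) :
    (ell D₂ : ℤ) - ell D₁ ≤ D₂.deg - D₁.deg := by
  have hE : (0 : Divisor k K) ≤ D₂ - D₁ := sub_nonneg.2 h
  have := (finiteDimensional_L_add_of_nonneg hK D₁ (finiteDimensional_L hK D₁) _ hE).2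
  rw [add_sub_cancel, Divisor.deg_sub] at this
  linarith

include hK in
theorem ell_mono {D₁ D₂ : Divisor k K} (h : D₁ ≤ D₂) : ell D₁ ≤ ell D₂ := by
  have := finiteDimensional_L hK D₂
  exact Submodule.finrank_mono (L_mono h)

include hK in
theorem ell_le_deg_add_ell_zero {D : Divisor k K} (hD : 0 ≤ D) :
    (ell D : ℤ) ≤ D.deg + ell (0 : Divisor k K) := by
  have := ell_sub_le hK 0 D hD
  rw [Divisor.deg_zero] at this
  linarith

end finiteness

end FunFld.W
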